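import Mathlib
import Cfsg.Agent.Lib.Helper14.Spec.Defs

/-!
# SPEC (S2362) package [O3]

In a non-degenerate quadratic space of dimension three in odd characteristic `p`, an isometry of
order prime to `p` commuting with a non-trivial isometry of order `p` is `±1`.
-/

set_option autoImplicit false

namespace Cfsg.Agent.Lib.Helper23.Spec

open Module Polynomial
open Cfsg.Agent.Lib.Helper14.Spec

universe u

section

variable {F : Type u} [Field F] {V : Type u} [AddCommGroup V] [Module F V] [FiniteDimensional F V]

/-- A nilpotent endomorphism of a 3-dimensional space has cube zero. -/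
theorem nil_cube (N : V →ₗ[F] V) (h3 : finrank F V = 3) (hN : IsNilpotent N) : N ^ 3 = 0 := by
  have h := (LinearMap.isNilpotent_iff_charpoly N).mp hN
  have h2 := LinearMap.aeval_self_charpoly N
  rw [h, h3] at h2
  simpa using h2

/-- An isometry preserves the polar form. -/
theorem polar_isom (Q : QuadraticForm F V) (u : V →ₗ[F] V) (hu : ∀ v, Q (u v) = Q v) (x y : V) :
    QuadraticMap.polar Q (u x) (u y) = QuadraticMap.polar Q x y := by
  simp only [QuadraticMap.polar, ← map_add, hu]

/-- A non-trivial unipotent isometry `u` of a non-degenerate 3-dimensional quadratic space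
(characteristic not 2) has `(u - 1)² ≠ 0`. -/
theorem sq_ne_zero_of_isom (Q : QuadraticForm F V)
    (hQ : (QuadraticMap.polarBilin Q).Nondegenerate) (h2 : (2 : F) ≠ 0) (h3 : finrank F V = 3)
    (u : V →ₗ[F] V) (hu : ∀ v, Q (u v) = Q v) (hu1 : u ≠ 1) : (u - 1) * (u - 1) ≠ 0 := by
  intro hNN
  set N : V →ₗ[F] V := u - 1 with hN
  have huN : ∀ x, u x = x + N x := by
    intro x
    simp [hN]
  have hNNx : ∀ x, N (N x) = 0 := fun x => by
    have := congrArg (fun f : V →ₗ[F] V => f x) hNN
    simpa using this
  have hpol : ∀ x y, QuadraticMap.polar Q (N x) y + QuadraticMap.polar Q x (N y) +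
      QuadraticMap.polar Q (N x) (N y) = 0 := by
    intro x y
    have h := polar_isom Q u hu x y
    rw [huN, huN, QuadraticMap.polar_add_left, QuadraticMap.polar_add_right,
      QuadraticMap.polar_add_right] at h
    linear_combination h
  have hNN0 : ∀ x y, QuadraticMap.polar Q (N x) (N y) = 0 := by
    intro x y
    have h := hpol x (N y)
    rw [hNNx y] at h
    simpa using h
  have hskew : ∀ x y, QuadraticMap.polar Q (N x) y = - QuadraticMap.polar Q x (N y) := by
    intro x y
    have h := hpol x y
    rw [hNN0] at h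
    linear_combination h
  have hxx : ∀ x, QuadraticMap.polar Q (N x) x = 0 := by
    intro x
    have h := hskew x x
    rw [QuadraticMap.polar_comm Q x (N x)] at h
    have h' : (2 : F) * QuadraticMap.polar Q (N x) x = 0 := by linear_combination h
    rcases mul_eq_zero.mp h' with h | h
    · exact absurd h h2
    · exact h
  have hN0 : N ≠ 0 := by
    intro h
    apply hu1
    exact sub_eq_zero.mp h
  obtain ⟨x0, hx0⟩ : ∃ x0, N x0 ≠ 0 := by
    by_contra hcon
    push Not at hcon
    exact hN0 (LinearMap.ext hcon)
  have hle : LinearMap.range N ≤ LinearMap.ker N := by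
    rintro _ ⟨y, rfl⟩
    exact LinearMap.mem_ker.mpr (hNNx y)
  have hrk := LinearMap.finrank_range_add_finrank_ker N
  have hmono := Submodule.finrank_mono hle
  have hr1 : finrank F (LinearMap.range N) = 1 := by
    have hpos : 0 < finrank F (LinearMap.range N) := by
      rw [Module.finrank_pos_iff]
      exact ⟨⟨⟨N x0, LinearMap.mem_range_self N x0⟩, 0,
        fun h => hx0 (congrArg Subtype.val h)⟩⟩
    omega
  have hspan : ∀ y, ∃ c : F, c • N x0 = N y := by
    intro y
    have h := (finrank_eq_one_iff_of_nonzero'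
      (⟨N x0, LinearMap.mem_range_self N x0⟩ : LinearMap.range N)
      (fun h => hx0 (congrArg Subtype.val h))).mp hr1 ⟨N y, LinearMap.mem_range_self N y⟩
    obtain ⟨c, hc⟩ := h
    exact ⟨c, congrArg Subtype.val hc⟩
  have hey : ∀ y, QuadraticMap.polar Q (N x0) y = 0 := by
    intro y
    obtain ⟨c, hc⟩ := hspan y
    by_cases hc0 : c = 0
    · have hNy : N y = 0 := by rw [← hc, hc0, zero_smul]
      have h := hxx (y + x0)
      rw [map_add, hNy, zero_add, QuadraticMap.polar_add_right, hxx x0, add_zero] at h
      exact h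
    · have h := hxx y
      rw [← hc, QuadraticMap.polar_smul_left, smul_eq_mul] at h
      rcases mul_eq_zero.mp h with h | h
      · exact absurd h hc0
      · exact h
  exact hx0 (hQ.1 _ hey)

end

theorem pkgO3 : PkgO3.{u} := by
  intro F _ V _ _ _ p _ _ hp2 Q hQ h3 u s m hu hs hup hu1 hsu hm hsm
  have hpr : p.Prime := Fact.out
  have h2 : (2 : F) ≠ 0 := by
    intro h
    have h' : ((2 : ℕ) : F) = 0 := by exact_mod_cast h
    rw [CharP.cast_eq_zero_iff F p] at h'
    exact hp2 ((Nat.prime_dvd_prime_iff_eq hpr Nat.prime_two).mp h')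
  have hmF : (m : F) ≠ 0 := by
    intro h
    rw [CharP.cast_eq_zero_iff F p] at h
    have h1 : p = 1 := Nat.Coprime.eq_one_of_dvd hm.symm h
    exact hpr.one_lt.ne' h1
  set N : V →ₗ[F] V := u - 1 with hN
  have hNp : N ^ p = 0 := by
    have hpoly : ((X : F[X]) - 1) ^ p = X ^ p - 1 := by
      rw [sub_pow_char, one_pow]
    have h := congrArg (Polynomial.aeval u) hpoly
    simp only [map_pow, map_sub, aeval_X, map_one] at h
    rw [hN, h, hup, sub_self]
  have hN3 : N ^ 3 = 0 := nil_cube N h3 ⟨p, hNp⟩
  have hN2 : N * N ≠ 0 := sq_ne_zero_of_isom Q hQ h2 h3 u hu hu1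
  obtain ⟨v, hv⟩ : ∃ v, N (N v) ≠ 0 := by
    by_contra hcon
    push Not at hcon
    exact hN2 (LinearMap.ext hcon)
  have hN3v : ∀ x, N (N (N x)) = 0 := fun x => by
    have h := congrArg (fun f : V →ₗ[F] V => f x) hN3
    simpa [pow_succ] using h
  have hsN : ∀ x, s (N x) = N (s x) := by
    intro x
    have h := congrArg (fun f : V →ₗ[F] V => f x) hsu
    simp only [Module.End.mul_apply] at h
    simp only [hN, LinearMap.sub_apply, Module.End.one_apply, map_sub, h]
  -- the cyclic basis
  have hli : LinearIndependent F ![v, N v, N (N v)] := by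
    rw [Fintype.linearIndependent_iff]
    intro g hg
    simp only [Fin.sum_univ_three, Matrix.cons_val_zero, Matrix.cons_val_one,
      Matrix.cons_val_two, Matrix.head_cons, Matrix.tail_cons] at hg
    have e0 : g 0 = 0 := by
      have h := congrArg (fun x => N (N x)) hg
      simp only [map_add, map_smul, hN3v, smul_zero, add_zero, map_zero] at h
      rcases smul_eq_zero.mp h with h | h
      · exact h
      · exact absurd h hv
    rw [e0, zero_smul, zero_add] at hg
    have e1 : g 1 = 0 := by
      have h := congrArg (fun x => N x) hg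
      simp only [map_add, map_smul, hN3v, smul_zero, add_zero, map_zero] at h
      rcases smul_eq_zero.mp h with h | h
      · exact h
      · exact absurd h hv
    rw [e1, zero_smul, zero_add] at hg
    have e2 : g 2 = 0 := by
      rcases smul_eq_zero.mp hg with h | h
      · exact h
      · exact absurd h hv
    intro i
    fin_cases i
    · exact e0
    · exact e1
    · exact e2
  have hspan : Submodule.span F (Set.range ![v, N v, N (N v)]) = ⊤ :=
    hli.span_eq_top_of_card_eq_finrank' (by simp [h3])
  obtain ⟨c, hc⟩ : ∃ c : Fin 3 → F, ∑ i, c i • ![v, N v, N (N v)] i = s v := by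
    have hmem : s v ∈ Submodule.span F (Set.range ![v, N v, N (N v)]) := by
      rw [hspan]; exact Submodule.mem_top
    exact (Submodule.mem_span_range_iff_exists_fun F).mp hmem
  simp only [Fin.sum_univ_three, Matrix.cons_val_zero, Matrix.cons_val_one,
    Matrix.cons_val_two, Matrix.head_cons, Matrix.tail_cons] at hc
  -- s = c 0 + c 1 N + c 2 N²
  have hsT : s = c 0 • (1 : V →ₗ[F] V) + N * (c 1 • (1 : V →ₗ[F] V) + c 2 • N) := by
    have hT : ∀ x, (c 0 • (1 : V →ₗ[F] V) + N * (c 1 • (1 : V →ₗ[F] V) + c 2 • N)) x =
        c 0 • x + (c 1 • N x + c 2 • N (N x)) := by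
      intro x
      simp only [LinearMap.add_apply, LinearMap.smul_apply, Module.End.one_apply,
        Module.End.mul_apply, map_add, map_smul]
    have e0 : s v = c 0 • v + (c 1 • N v + c 2 • N (N v)) := by
      rw [← hc]; abel
    have e1 : s (N v) = c 0 • N v + (c 1 • N (N v) + c 2 • N (N (N v))) := by
      rw [hsN, e0]
      simp only [map_add, map_smul]
    have e2 : s (N (N v)) = c 0 • N (N v) + (c 1 • N (N (N v)) + c 2 • N (N (N (N v)))) := by
      rw [hsN, e1]
      simp only [map_add, map_smul]
    apply LinearMap.ext_on_range hspan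
    intro i
    fin_cases i
    · exact e0.trans (hT v).symm
    · exact e1.trans (hT (N v)).symm
    · exact e2.trans (hT (N (N v))).symm
  -- nilpotent part
  have hcomm : Commute N (c 1 • (1 : V →ₗ[F] V) + c 2 • N) :=
    Commute.add_right (Commute.smul_right (Commute.one_right _) _)
      (Commute.smul_right (Commute.refl _) _)
  have hnil : (s - algebraMap F (Module.End F V) (c 0)) ^ 3 = 0 := by
    have e : s - algebraMap F (Module.End F V) (c 0) = N * (c 1 • (1 : V →ₗ[F] V) + c 2 • N) := by
      rw [Algebra.algebraMap_eq_smul_one]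
      nth_rewrite 1 [hsT]
      abel
    rw [e, hcomm.mul_pow, hN3, zero_mul]
  -- minimal polynomial
  have hsep : (X ^ m - C (1 : F)).Separable := Polynomial.separable_X_pow_sub_C 1 hmF one_ne_zero
  have hd1 : minpoly F s ∣ X ^ m - C (1 : F) := by
    apply minpoly.dvd
    simp [hsm]
  have hd2 : minpoly F s ∣ (X - C (c 0)) ^ 3 := by
    apply minpoly.dvd
    simpa using hnil
  have hsq : Squarefree (minpoly F s) := (hsep.of_dvd hd1).squarefree
  have hd3 : minpoly F s ∣ X - C (c 0) :=
    (hsq.dvd_pow_iff_dvd (by norm_num)).mp hd2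
  have hsa : s = algebraMap F (Module.End F V) (c 0) := by
    obtain ⟨g, hg⟩ := hd3
    have h := congrArg (Polynomial.aeval s) hg
    rw [map_mul, minpoly.aeval, zero_mul] at h
    simp only [map_sub, aeval_X, aeval_C] at h
    exact sub_eq_zero.mp h
  have hsx : ∀ x, s x = c 0 • x := by
    intro x
    rw [hsa]
    simp [Algebra.algebraMap_eq_smul_one]
  -- a vector with Q ≠ 0
  have hV : ∃ x : V, x ≠ 0 := by
    by_contra hcon
    push Not at hcon
    exact hv (hcon _)
  obtain ⟨x, hx⟩ := hV
  obtain ⟨w, hw⟩ : ∃ w : V, Q w ≠ 0 := by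
    by_contra hcon
    push Not at hcon
    apply hx
    apply hQ.1
    intro y
    change QuadraticMap.polar Q x y = 0
    simp [QuadraticMap.polar, hcon]
  have hcc : c 0 * c 0 = 1 := by
    have h := hs w
    rw [hsx, QuadraticMap.map_smul, smul_eq_mul] at h
    have h' : (c 0 * c 0 - 1) * Q w = 0 := by linear_combination h
    rcases mul_eq_zero.mp h' with h | h
    · exact sub_eq_zero.mp h
    · exact absurd h hw
  rcases mul_self_eq_one_iff.mp hcc with h | h
  · left
    apply LinearMap.ext
    intro x
    rw [hsx, h, one_smul]; rfl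
  · right
    apply LinearMap.ext
    intro x
    rw [hsx, h]; simp

end Cfsg.Agent.Lib.Helper23.Spec
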